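import Groth.Agent.CohTop.K313.GodRes
import Groth.Agent.CohtopB.TopStalk
import Groth.Agent.FibDesc.K753.Cart

/-!
# The cartesian presheaf of a sheaf and inverse images

`nonempty_iso_pull`: for an abelian sheaf `F` on `S` and `T` over `S`, the sheaf on `T` associated with the cartesian
presheaf of `F` is the inverse image of `F`.
-/

set_option autoImplicit false
set_option backward.isDefEq.respectTransparency false
set_option backward.isDefEq.respectTransparency.types false

universe u

open CategoryTheory CategoryTheory.Limits Opposite TopologicalSpace ComplexShape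

namespace K313.CartPull

open K781.God K781.Desc K781.Flq Groth.Agent Groth.Agent.CohtopB

section Stalks

variable {X Y : TopCat.{u}}

theorem isIso_of_stalk_push (f : X ⟶ Y) (F : CohTop.Ab Y) (G : CohTop.Ab X) (φ : F ⟶ (CohTop.push f).obj G)
    (h : ∀ x : X, IsIso ((TopPull.stalkF (f x)).map φ ≫ (TopPull.stalkPush f x).app G)) :
    IsIso (((TopPull.adj f).homEquiv F G).symm φ) := by
  refine TopStalk.isIso_of_stalks _ fun x => ?_
  have h1 : (TopPull.stalkComp f x).app F ≫
      (TopPull.stalkF x).map (((TopPull.adj f).homEquiv F G).symm φ) =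
      (TopPull.stalkF (f x)).map φ ≫ (TopPull.stalkPush f x).app G := by
    rw [Adjunction.homEquiv_counit, Functor.map_comp, ← Category.assoc]
    have h2 := (TopPull.stalkComp f x).naturality φ
    have h3 : (TopPull.stalkComp f x).app F ≫ (TopPull.stalkF x).map ((CohTop.pull f).map φ) =
      (TopPull.stalkF (f x)).map φ ≫ (TopPull.stalkComp f x).app ((CohTop.push f).obj G) := h2.symm
    rw [h3, Category.assoc]
    exact congrArg (fun t => (TopPull.stalkF (f x)).map φ ≫ t) (TopStalk.stalkComp_counit f x G)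
  have h4 : IsIso ((TopPull.stalkComp f x).app F ≫
      (TopPull.stalkF x).map (((TopPull.adj f).homEquiv F G).symm φ)) := by
    rw [h1]
    exact h x
  exact IsIso.of_isIso_comp_left ((TopPull.stalkComp f x).app F) _

theorem stalkPushforward_naturality (f : X ⟶ Y) {A B : TopCat.Presheaf AddCommGrpCat.{u} X} (τ : A ⟶ B) (x : X) :
    (TopCat.Presheaf.stalkFunctor AddCommGrpCat.{u} (f x)).map
        ((TopCat.Presheaf.pushforward AddCommGrpCat.{u} f).map τ) ≫
      TopCat.Presheaf.stalkPushforward AddCommGrpCat.{u} f B x =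
    TopCat.Presheaf.stalkPushforward AddCommGrpCat.{u} f A x ≫
      (TopCat.Presheaf.stalkFunctor AddCommGrpCat.{u} x).map τ := by
  refine TopCat.Presheaf.stalk_hom_ext _ fun U hU => ?_
  have h1 := TopCat.Presheaf.stalkFunctor_map_germ_assoc U (f x) hU
    ((TopCat.Presheaf.pushforward AddCommGrpCat.{u} f).map τ)
    (TopCat.Presheaf.stalkPushforward AddCommGrpCat.{u} f B x)
  have h2 := TopCat.Presheaf.stalkPushforward_germ AddCommGrpCat.{u} f B U x hU
  have h3 := TopCat.Presheaf.stalkPushforward_germ_assoc AddCommGrpCat.{u} f A U x hU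
    ((TopCat.Presheaf.stalkFunctor AddCommGrpCat.{u} x).map τ)
  have h4 := TopCat.Presheaf.stalkFunctor_map_germ ((Opens.map f).obj U) x hU τ
  refine h1.trans (Eq.trans ?_ h3.symm)
  exact (congrArg (fun t => ((TopCat.Presheaf.pushforward AddCommGrpCat.{u} f).map τ).app (op U) ≫ t) h2).trans
    h4.symm

theorem isIso_stalk_of_locally {A B : TopCat.Presheaf AddCommGrpCat.{u} X} (φ : A ⟶ B)
    [Presheaf.IsLocallyInjective (Opens.grothendieckTopology X) φ]
    [Presheaf.IsLocallySurjective (Opens.grothendieckTopology X) φ] (x : X) :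
    IsIso ((TopCat.Presheaf.stalkFunctor AddCommGrpCat.{u} x).map φ) := by
  rw [ConcreteCategory.isIso_iff_bijective]
  constructor
  · rw [injective_iff_map_eq_zero]
    intro a ha
    obtain ⟨U, hU, s, rfl⟩ := TopCat.Presheaf.exists_germ_eq A a
    have h1 : TopCat.Presheaf.germ B U x hU (φ.app (op U) s) = TopCat.Presheaf.germ B U x hU 0 := by
      rw [map_zero, ← ha]
      exact (TopCat.Presheaf.stalkFunctor_map_germ_apply U x hU φ s).symm
    obtain ⟨V, hV, i, j, e⟩ := TopCat.Presheaf.germ_eq B x hU hU _ _ h1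
    have h2 : φ.app (op V) (A.map i.op s) = φ.app (op V) 0 := by
      rw [map_zero]
      have h3 := ConcreteCategory.congr_hom (φ.naturality i.op) s
      exact h3.trans (e.trans (map_zero _))
    obtain ⟨W, k, hk, hxW⟩ := Presheaf.equalizerSieve_mem (Opens.grothendieckTopology X) φ _ _ h2 x hV
    have h4 : A.map k.op (A.map i.op s) = 0 := hk.trans (map_zero _)
    rw [← TopCat.Presheaf.germ_res_apply A i x hV s, ← TopCat.Presheaf.germ_res_apply A k x hxW, h4,
      map_zero]
  · exact (TopCat.Presheaf.locally_surjective_iff_surjective_on_stalks φ).1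
      (inferInstanceAs (Presheaf.IsLocallySurjective (Opens.grothendieckTopology X) φ)) x

end Stalks

section Main

variable {S : TopCat.{u}} (F : CohTop.Ab S) (T : Over S)

/-- The structure map. -/
abbrev str : T ⟶ Over.mk (𝟙 S) := Over.homMk T.hom

/-- The presheaf map `F ⟶ f_* P_T`. -/
noncomputable def pre : F.obj ⟶ (TopCat.Presheaf.pushforward AddCommGrpCat.{u} T.hom).obj
    (psh (K753.Cart.P F.obj) T) :=
  K753.Cart.cmp F.obj ≫ resP (K753.Cart.P F.obj) (str T)

/-- The map `F ⟶ f_* (P_T)^#`. -/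
noncomputable def toPush : F ⟶ (CohTop.push T.hom).obj ((GodRes.shT T).obj (K753.Cart.P F.obj)) :=
  ⟨pre F T ≫ (TopCat.Presheaf.pushforward AddCommGrpCat.{u} T.hom).map
    (toSheafify (Opens.grothendieckTopology T.left) (psh (K753.Cart.P F.obj) T))⟩

theorem isIso_stalk_pre (t : T.left) :
    IsIso ((TopCat.Presheaf.stalkFunctor AddCommGrpCat.{u} (T.hom t)).map (pre F T) ≫
      TopCat.Presheaf.stalkPushforward AddCommGrpCat.{u} T.hom (psh (K753.Cart.P F.obj) T) t) := by
  rw [pre, Functor.map_comp, Category.assoc]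
  have h1 : IsIso ((TopCat.Presheaf.stalkFunctor AddCommGrpCat.{u} (T.hom t)).map (K753.Cart.cmp F.obj)) :=
    isIso_stalk_of_locally _ _
  have h2 : IsIso (stRes (K753.Cart.P F.obj) (str T) t) := by
    rw [ConcreteCategory.isIso_iff_bijective]
    exact K753.Cart.isCart F.obj _ _ (str T) t
  exact IsIso.comp_isIso' h1 h2

theorem isIso_toPush (t : T.left) : IsIso ((TopPull.stalkF (T.hom t)).map (toPush F T) ≫
    (TopPull.stalkPush T.hom t).app ((GodRes.shT T).obj (K753.Cart.P F.obj))) := by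
  have h1 := isIso_stalk_pre F T t
  have h2 : IsIso ((TopCat.Presheaf.stalkFunctor AddCommGrpCat.{u} t).map
      (toSheafify (Opens.grothendieckTopology T.left) (psh (K753.Cart.P F.obj) T))) :=
    TopCat.Presheaf.stalkFunctor_map_unit_toSheafify_isIso t AddCommGrpCat.{u} _
  have h3 : (TopPull.stalkF (T.hom t)).map (toPush F T) ≫
    (TopPull.stalkPush T.hom t).app ((GodRes.shT T).obj (K753.Cart.P F.obj)) =
      ((TopCat.Presheaf.stalkFunctor AddCommGrpCat.{u} (T.hom t)).map (pre F T) ≫
      TopCat.Presheaf.stalkPushforward AddCommGrpCat.{u} T.hom (psh (K753.Cart.P F.obj) T) t) ≫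
      (TopCat.Presheaf.stalkFunctor AddCommGrpCat.{u} t).map
      (toSheafify (Opens.grothendieckTopology T.left) (psh (K753.Cart.P F.obj) T)) := by
    have h4 := stalkPushforward_naturality T.hom
      (toSheafify (Opens.grothendieckTopology T.left) (psh (K753.Cart.P F.obj) T)) t
    rw [Category.assoc, ← h4, ← Category.assoc, ← Functor.map_comp]
    rfl
  rw [h3]
  exact IsIso.comp_isIso' h1 h2

/-- The sheaf on `T` associated with the cartesian presheaf of `F` is the inverse image of `F`. -/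
theorem nonempty_iso_pull :
    Nonempty ((GodRes.shT T).obj (K753.Cart.P F.obj) ≅ (CohTop.pull T.hom).obj F) := by
  have h := isIso_of_stalk_push T.hom F _ (toPush F T) (isIso_toPush F T)
  exact ⟨(@asIso _ _ _ _ (((TopPull.adj T.hom).homEquiv F
    ((GodRes.shT T).obj (K753.Cart.P F.obj))).symm (toPush F T)) h).symm⟩

/-- Isomorphic sheaves have isomorphic cohomology. -/
theorem nonempty_iso_H_of_iso {X : TopCat.{u}} {F G : CohTop.Ab X} (e : F ≅ G) (q : ℕ) :
    Nonempty (AddCommGrpCat.of (CohTop.H F q) ≅ AddCommGrpCat.of (CohTop.H G q)) := by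
  obtain ⟨e₁⟩ := GammaH.nonempty_iso_H F q
  obtain ⟨e₂⟩ := GammaH.nonempty_iso_H G q
  exact ⟨e₁.symm ≪≫ ((Γ (⊤ : Opens X)).rightDerived q).mapIso e ≪≫ e₂⟩

/-- **The Godement complex of the cartesian presheaf of `F` at `T` computes `H^q(T, F|T)`.** -/
theorem nonempty_homology_iso (q : ℕ) :
    Nonempty ((GodRes.GT T (K753.Cart.P F.obj)).homology q ≅
      AddCommGrpCat.of (CohTop.H ((CohTop.pull T.hom).obj F) q)) := by
  obtain ⟨e₁⟩ := GodRes.nonempty_homology_iso T (K753.Cart.P F.obj) q
  obtain ⟨e₂⟩ := nonempty_iso_pull F T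
  obtain ⟨e₃⟩ := nonempty_iso_H_of_iso e₂ q
  exact ⟨e₁ ≪≫ e₃⟩

theorem nonempty_iso_pull_id {X : TopCat.{u}} (F : CohTop.Ab X) :
    Nonempty ((CohTop.pull (𝟙 X)).obj F ≅ F) := by
  have h := isIso_of_stalk_push (𝟙 X) F F (⟨𝟙 _⟩ : F ⟶ (CohTop.push (𝟙 X)).obj F) (fun x => by
    have h1 := TopStalk.isIso_stalkPush_of_isInducing (𝟙 X) Topology.IsInducing.id x F
    have h2 : (TopPull.stalkF ((𝟙 X : X ⟶ X) x)).map (⟨𝟙 _⟩ : F ⟶ (CohTop.push (𝟙 X)).obj F) =
      𝟙 ((TopPull.stalkF ((𝟙 X : X ⟶ X) x)).obj F) := (TopPull.stalkF x).map_id F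
    rw [h2]
    exact (Category.id_comp ((TopPull.stalkPush (𝟙 X) x).app F)).symm ▸ h1)
  exact ⟨@asIso _ _ _ _ _ h⟩

/-- The Godement complex at the base. -/
theorem nonempty_homology_iso_id (q : ℕ) :
    Nonempty ((GodRes.GT (Over.mk (𝟙 S)) (K753.Cart.P F.obj)).homology q ≅
      AddCommGrpCat.of (CohTop.H F q)) := by
  obtain ⟨e₁⟩ := nonempty_homology_iso F (Over.mk (𝟙 S)) q
  obtain ⟨e₂⟩ := nonempty_iso_pull_id F
  obtain ⟨e₃⟩ := nonempty_iso_H_of_iso e₂ q
  exact ⟨e₁ ≪≫ e₃⟩

end Main

end K313.CartPull
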