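import Groth.Agent.CohTop.K313.DescRow
import Groth.Agent.FibDesc.K781.Crit
import Groth.Agent.FibDesc.K438.Basic

/-!
# The descent spectral sequence of a map of cohomological descent
-/

set_option autoImplicit false
set_option backward.isDefEq.respectTransparency false
set_option backward.isDefEq.respectTransparency.types false

universe u

open CategoryTheory CategoryTheory.Limits Opposite TopologicalSpace ComplexShape

namespace K313.DescCoh

open K781.God K781.Desc K781.Row K781.Cech DescRow

variable {S : TopCat.{u}} (F : CohTop.Ab S)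

theorem isDesc_of_coh (τ : Dpᵒᵖ ⥤ Over S) (h : FibDesc.IsCohDescentTop (τ ⋙ Over.forget S)) :
    IsDesc (rs τ.rightOp (GF F)) :=
  DescP.of_top (K781.Crit.crit₁ τ h (K753.Cart.P F.obj) (K753.Cart.isCart F.obj) ⊤)

theorem isDesc_map_of_coh {X : TopCat.{u}} (f : X ⟶ S) (h : FibDesc.IsCohDescentMap f) :
    IsDesc (rs (cechS f).rightOp (GF F)) :=
  isDesc_of_coh F (cechS f) h

theorem star_hom {X : TopCat.{u}} (f : X ⟶ S) : (K781.Cech.nerve f).map (init WithInitial.star).op = 𝟙 S := by
  have h1 : (init WithInitial.star : (WithInitial.star : Dp) ⟶ _) = 𝟙 _ :=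
    WithInitial.starInitial.hom_ext _ _
  rw [h1, op_id, (K781.Cech.nerve f).map_id]
  rfl

/-- Invariance of descent under isomorphisms over `S`. -/
theorem isDesc_map_of_iso {X X' : TopCat.{u}} (f : X ⟶ S) (f' : X' ⟶ S) (e : X' ≅ X) (w : e.hom ≫ f = f')
    (h : IsDesc (rs (cechS f').rightOp (GF F))) : IsDesc (rs (cechS f).rightOp (GF F)) := by
  have hC : K781.Cech.IsCech (cechS f) := K781.Cech.isCech_lift _ (K781.Cech.isCech_nerve f) _
  have hC' : K781.Cech.IsCech (cechS f') := K781.Cech.isCech_lift _ (K781.Cech.isCech_nerve f') _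
  let a : (cechS f').obj (op (ob 0)) ≅ (cechS f).obj (op (ob 0)) :=
    Over.isoMk (nerveZero f' ≪≫ e ≪≫ (nerveZero f).symm) (by
      change ((nerveZero f').hom ≫ e.hom ≫ (nerveZero f).inv) ≫ (nerve f).map (init (ob 0)).op ≫ 𝟙 S =
        (nerve f').map (init (ob 0)).op ≫ 𝟙 S
      have h2 : ((nerveZero f').hom ≫ e.hom ≫ (nerveZero f).inv) ≫ (nerve f).map (init (ob 0)).op =
        (nerve f').map (init (ob 0)).op := by
        rw [Category.assoc, Category.assoc, nerveZero_inv, w, nerveZero_hom]
      exact (Category.assoc _ _ _).symm.trans (congrArg (fun t => t ≫ 𝟙 S) h2))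
  let b : (cechS f').obj (op .star) ≅ (cechS f).obj (op .star) :=
    Over.isoMk (Iso.refl S) (by
      change 𝟙 S ≫ (nerve f).map (init WithInitial.star).op ≫ 𝟙 S =
        (nerve f').map (init WithInitial.star).op ≫ 𝟙 S
      rw [star_hom, star_hom]
      rfl)
  obtain ⟨φ, -, -⟩ := exists_iso hC' hC a b (by
    apply Over.OverMorphism.ext
    change (nerve f').map (init (ob 0)).op ≫ 𝟙 S =
      ((nerveZero f').hom ≫ e.hom ≫ (nerveZero f).inv) ≫ (nerve f).map (init (ob 0)).op
    rw [Category.assoc, Category.assoc, nerveZero_inv, w, nerveZero_hom]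
    exact Category.comp_id _)
  exact DescP.of_iso φ h

theorem isDesc_map_of_univ {X : TopCat.{u}} (f : X ⟶ S) (h : FibDesc.IsUnivCohDescentMap f) :
    IsDesc (rs (cechS f).rightOp (GF F)) := by
  have h1 := isDesc_map_of_coh F _ (h S (𝟙 S))
  have : IsIso (pullback.fst f (𝟙 S)) := inferInstance
  refine isDesc_map_of_iso F f (pullback.snd f (𝟙 S)) (asIso (pullback.fst f (𝟙 S))) ?_ h1
  exact pullback.condition.trans (Category.comp_id _)

end K313.DescCoh
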