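import Groth.Agent.EtDesc.K224.DC
import Groth.Agent.FibDesc.K781.Desc
import Mathlib.Algebra.Homology.TotalComplexSymmetry
import Mathlib.Algebra.Homology.ComplexShapeSigns

/-!
# The descent spectral sequence of a coaugmented cosimplicial complex
-/

set_option autoImplicit false
set_option backward.isDefEq.respectTransparency false
set_option backward.isDefEq.respectTransparency.types false

universe u v

open CategoryTheory CategoryTheory.Limits Opposite AlgebraicTopology HomologicalComplex₂ ComplexShape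

namespace K313.DescSS

open K781.Desc Groth.Agent.Htor.H253.TotalRow

variable {C : Type u} [Category.{v} C] [Abelian C]

/-- The complex at an object of the augmented simplex category. -/
noncomputable abbrev at' (A : CochainComplex (Dp ⥤ C) ℤ) (x : Dp) : CochainComplex C ℤ :=
  (((evaluation Dp C).obj x).mapHomologicalComplex (up ℤ)).obj A

variable [∀ D : HomologicalComplex₂ C (up ℤ) (up ℤ), D.HasTotal (up ℤ)]

theorem nonempty_column (A : CochainComplex (Dp ⥤ C) ℤ) (n : ℕ) (p : ℤ) (h : (n : ℤ) = p) :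
    Nonempty (((DC A).flip).X p ≅ at' A (ob n)) := by
  let e : rF C ⋙ cf C ⋙ HomologicalComplex.eval C (up ℤ) p ≅ (evaluation Dp C).obj (ob n) :=
    (NatIso.ofComponents (fun P => (θ ((rF C).obj P) n p h)) (fun {P Q} f => by
        exact θ_naturality ((rF C).map f) n p h))
  exact ⟨(NatIso.mapHomologicalComplex e (up ℤ)).app A⟩

/-- **The descent spectral sequence**. -/
theorem exists_E₁ (A : CochainComplex (Dp ⥤ C) ℤ) (hA : ∀ i : ℤ, i < 0 → IsZero (A.X i)) (h : IsDesc A)
    (H : ℤ → C) (e : ∀ n, Nonempty ((at' A .star).homology n ≅ H n)) :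
    ∃ (E : CohomologicalSpectralSequence C 1) (a : SpSeq.Abutment E H), (∀ n, a.IsFinite n) ∧ SpSeq.IsBounded E ∧
      ∀ p q : ℤ, (0 ≤ p → Nonempty ((E.page 1 le_rfl).X (p, q) ≅ (at' A (ob p.toNat)).homology q)) ∧
        (p < 0 → IsZero ((E.page 1 le_rfl).X (p, q))) := by
  have hz : ∀ p q : ℤ, p < 0 ∨ q < 0 → IsZero (((DC A).flip.X p).X q) := by
    intro p q hpq
    rcases hpq with hp | hq
    · exact isZero_neg _ p hp
    · exact isZero_of_isZero _ ((rF C).map_isZero (hA q hq)) p
  obtain ⟨E, a, ha, hb, hE⟩ := K224.DC.exists_E₁ (DC A).flip 0 0 hz H (fun n => by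
    obtain ⟨e₁⟩ := e n
    have h1 : QuasiIso (total.map (α A) (up ℤ)) := h
    have e₂ : ((DC A).total (up ℤ)).homology n ≅ ((E0 A).total (up ℤ)).homology n :=
      (asIso (HomologicalComplex.homologyMap (total.map (α A) (up ℤ)) n)).symm
    have e₃ : ((E0 A).total (up ℤ)).homology n ≅ (at' A .star).homology n :=
      (HomologicalComplex.homologyFunctor C (up ℤ) n).mapIso (rowIso (at' A .star)).symm
    have e₄ : ((DC A).flip.total (up ℤ)).homology n ≅ ((DC A).total (up ℤ)).homology n :=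
      (HomologicalComplex.homologyFunctor C (up ℤ) n).mapIso (totalFlipIso (DC A) (up ℤ))
    exact ⟨e₄ ≪≫ e₂ ≪≫ e₃ ≪≫ e₁⟩)
  refine ⟨E, a, ha, hb, fun p q => ⟨fun hp => ?_, fun hp => ?_⟩⟩
  · obtain ⟨e₁⟩ := hE p q
    obtain ⟨e₂⟩ := nonempty_column A p.toNat p (Int.toNat_of_nonneg hp)
    exact ⟨e₁ ≪≫ (HomologicalComplex.homologyFunctor C (up ℤ) q).mapIso e₂⟩
  · obtain ⟨e₁⟩ := hE p q
    exact IsZero.of_iso (K224.DC.isZero_homology_of_X _ q (hz p q (Or.inl hp))) e₁

end K313.DescSS
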