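import Groth.Agent.CohTop.K313.CartPull
import Groth.Agent.CohTop.K313.DescSS
import Groth.Agent.FibDesc.K31.Cech

/-!
# The descent spectral sequence of an augmented simplicial space, from descent of the Godement complex
-/

set_option autoImplicit false
set_option backward.isDefEq.respectTransparency false
set_option backward.isDefEq.respectTransparency.types false

universe u

open CategoryTheory CategoryTheory.Limits Opposite TopologicalSpace ComplexShape

namespace K313.DescRow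

open K781.God K781.Desc K781.Flq Groth.Agent Groth.Agent.CohtopB

variable {S : TopCat.{u}} (F : CohTop.Ab S)

/-- The Godement complex of the cartesian presheaf of `F`. -/
noncomputable abbrev GF : CochainComplex ((Over S)ᵒᵖ ⥤ AddCommGrpCat.{u}) ℤ := G (K753.Cart.P F.obj)

theorem nonempty_GT_iso (P : (Over S)ᵒᵖ ⥤ AddCommGrpCat.{u}) {T T' : Over S} (e : T ≅ T') :
    Nonempty (GodRes.GT T P ≅ GodRes.GT T' P) :=
  ⟨(NatIso.mapHomologicalComplex ((evaluation (Over S)ᵒᵖ AddCommGrpCat.{u}).mapIso e.symm.op)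
    (up ℤ)).app (G P)⟩

theorem isZero_GT_homology (P : (Over S)ᵒᵖ ⥤ AddCommGrpCat.{u}) (T : Over S) (n : ℤ) (hn : n < 0) :
    IsZero ((GodRes.GT T P).homology n) :=
  K224.DC.isZero_homology_of_X _ n (((evaluation (Over S)ᵒᵖ AddCommGrpCat.{u}).obj (op T)).map_isZero
    (G_neg P n hn))

theorem isZero_punit : IsZero (AddCommGrpCat.of PUnit.{u + 1}) :=
  AddCommGrpCat.isZero_of_subsingleton _

theorem isZero_rs (τ : Dpᵒᵖ ⥤ Over S) (i : ℤ) (hi : i < 0) : IsZero ((rs τ.rightOp (GF F)).X i) :=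
  ((Functor.whiskeringLeft _ _ AddCommGrpCat.{u}).obj τ.rightOp).map_isZero (G_neg _ i hi)

/-- **The descent spectral sequence.** -/
theorem exists_spectralSequence (τ : Dpᵒᵖ ⥤ Over S) (e₀ : Nonempty (τ.obj (op .star) ≅ Over.mk (𝟙 S)))
    (h : IsDesc (rs τ.rightOp (GF F))) (Y : ℕ → Over S) (e : ∀ n, Nonempty (τ.obj (op (ob n)) ≅ Y n)) :
    ∃ (E : CohomologicalSpectralSequence AddCommGrpCat.{u} 1)
      (a : SpSeq.Abutment E (fun n : ℤ =>
        if 0 ≤ n then AddCommGrpCat.of (CohTop.H F n.toNat) else AddCommGrpCat.of PUnit.{u + 1})),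
      (∀ n, a.IsFinite n) ∧ SpSeq.IsBounded E ∧
      ∀ p q : ℤ, Nonempty ((E.page 1 le_rfl).X (p, q) ≅
        (if 0 ≤ p ∧ 0 ≤ q then
          AddCommGrpCat.of (CohTop.H ((CohTop.pull (Y p.toNat).hom).obj F) q.toNat)
         else AddCommGrpCat.of PUnit.{u + 1})) := by
  obtain ⟨E, a, ha, hb, hE⟩ := DescSS.exists_E₁ (rs τ.rightOp (GF F))
    (fun i hi => isZero_rs F τ i hi) h (fun n : ℤ =>
        if 0 ≤ n then AddCommGrpCat.of (CohTop.H F n.toNat) else AddCommGrpCat.of PUnit.{u + 1}) (fun n => by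
      change Nonempty ((GodRes.GT (τ.obj (op .star)) (K753.Cart.P F.obj)).homology n ≅ _)
      split_ifs with hn
      · obtain ⟨m, rfl⟩ := Int.eq_ofNat_of_zero_le hn
        obtain ⟨e₀⟩ := e₀
        obtain ⟨e₁⟩ := nonempty_GT_iso (K753.Cart.P F.obj) e₀
        obtain ⟨e₂⟩ := CartPull.nonempty_homology_iso_id F m
        exact ⟨(HomologicalComplex.homologyFunctor _ (up ℤ) (m : ℤ)).mapIso e₁ ≪≫ e₂⟩
      · exact ⟨(isZero_GT_homology _ _ n (not_le.1 hn)).iso isZero_punit⟩)
  refine ⟨E, a, ha, hb, fun p q => ?_⟩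
  split_ifs with hpq
  · obtain ⟨e₁⟩ := (hE p q).1 hpq.1
    obtain ⟨p, rfl⟩ := Int.eq_ofNat_of_zero_le hpq.1
    obtain ⟨q, rfl⟩ := Int.eq_ofNat_of_zero_le hpq.2
    have e₁' : (E.page 1 le_rfl).X ((p : ℤ), (q : ℤ)) ≅
      (GodRes.GT (τ.obj (op (ob p))) (K753.Cart.P F.obj)).homology q := e₁
    obtain ⟨e⟩ := e p
    obtain ⟨e₂⟩ := nonempty_GT_iso (K753.Cart.P F.obj) e
    obtain ⟨e₃⟩ := CartPull.nonempty_homology_iso F (Y p) q
    exact ⟨e₁' ≪≫ (HomologicalComplex.homologyFunctor _ (up ℤ) (q : ℤ)).mapIso e₂ ≪≫ e₃⟩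
  · by_cases hp : 0 ≤ p
    · obtain ⟨e₁⟩ := (hE p q).1 hp
      have hq : q < 0 := by
        by_contra hq
        exact hpq ⟨hp, not_lt.1 hq⟩
      have h1 := isZero_GT_homology (K753.Cart.P F.obj) (τ.obj (op (ob p.toNat))) q hq
      exact ⟨e₁ ≪≫ h1.iso isZero_punit⟩
    · exact ⟨((hE p q).2 (not_le.1 hp)).iso isZero_punit⟩

/-- The augmented Cech nerve over `S`. -/
noncomputable abbrev cechS {X : TopCat.{u}} (f : X ⟶ S) : Dpᵒᵖ ⥤ Over S :=
  K781.Cech.lift (K781.Cech.nerve f) (𝟙 S)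

/-- The descent spectral sequence of a map, from descent of the Godement complex. -/
theorem exists_spectralSequence_map {X : TopCat.{u}} (f : X ⟶ S)
    (h : IsDesc (rs (cechS f).rightOp (GF F))) :
    ∃ (E : CohomologicalSpectralSequence AddCommGrpCat.{u} 1)
      (a : SpSeq.Abutment E (fun n : ℤ =>
        if 0 ≤ n then AddCommGrpCat.of (CohTop.H F n.toNat) else AddCommGrpCat.of PUnit.{u + 1})),
      (∀ n, a.IsFinite n) ∧ SpSeq.IsBounded E ∧
      ∀ p q : ℤ, Nonempty ((E.page 1 le_rfl).X (p, q) ≅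
        (if 0 ≤ p ∧ 0 ≤ q then
          AddCommGrpCat.of (CohTop.H ((CohTop.pull
            (WidePullback.base (fun _ : Fin (p.toNat + 1) => f) :
              widePullback S (fun _ : Fin (p.toNat + 1) => X) (fun _ => f) ⟶ S)).obj F) q.toNat)
         else AddCommGrpCat.of PUnit.{u + 1})) := by
  refine exists_spectralSequence F (cechS f) ⟨Over.isoMk (Iso.refl _) ?_⟩ h
    (fun n => Over.mk (WidePullback.base (fun _ : Fin (n + 1) => f) :
              widePullback S (fun _ : Fin (n + 1) => X) (fun _ => f) ⟶ S))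
    (fun n => ⟨Over.isoMk (Iso.refl _) ?_⟩)
  · change 𝟙 _ ≫ 𝟙 _ = (K781.Cech.nerve f).map (init WithInitial.star).op ≫ 𝟙 S
    have h1 : (init WithInitial.star : (WithInitial.star : Dp) ⟶ _) = 𝟙 _ :=
      WithInitial.starInitial.hom_ext _ _
    rw [h1]
    rw [op_id, (K781.Cech.nerve f).map_id]
    rfl
  · change 𝟙 _ ≫ WidePullback.base (fun _ : Fin (n + 1) => f) =
      WidePullback.base (fun _ : Fin (n + 1) => f) ≫ 𝟙 S
    rw [Category.id_comp, Category.comp_id]

/-- Descent of the Godement complex for a map with a section. -/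
theorem isDesc_of_section {X : TopCat.{u}} (f : X ⟶ S) (s : S ⟶ X) (hs : s ≫ f = 𝟙 S) :
    IsDesc (rs (cechS f).rightOp (GF F)) := by
  have hC : K781.Cech.IsCech (cechS f) := K781.Cech.isCech_lift _ (K781.Cech.isCech_nerve f) _
  let s' : (cechS f).obj (op .star) ⟶ (cechS f).obj (op (ob 0)) :=
    Over.homMk (s ≫ (K781.Cech.nerveZero f).inv) (by
      have h1 : (init WithInitial.star : (WithInitial.star : Dp) ⟶ _) = 𝟙 _ :=
        WithInitial.starInitial.hom_ext _ _
      have h2 : (s ≫ (K781.Cech.nerveZero f).inv) ≫ (K781.Cech.nerve f).map (init (ob 0)).op = 𝟙 S := by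
        rw [Category.assoc, K781.Cech.nerveZero_inv, hs]
      have h3 : (K781.Cech.nerve f).map (init WithInitial.star).op = 𝟙 S := by
        rw [h1, op_id, (K781.Cech.nerve f).map_id]
        rfl
      exact (Category.assoc _ _ _).symm.trans (congrArg (fun t => t ≫ 𝟙 S) (h2.trans h3.symm)))
  have hs' : s' ≫ (cechS f).map (init (ob 0)).op = 𝟙 _ := by
    apply Over.OverMorphism.ext
    change (s ≫ (K781.Cech.nerveZero f).inv) ≫ (K781.Cech.nerve f).map (init (ob 0)).op = _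
    rw [Category.assoc, K781.Cech.nerveZero_inv, hs]
    rfl
  obtain ⟨x⟩ := K781.Cech.xco_of_section hC s' hs'
  refine isDesc_of_augExact ⟨0, fun i hi => isZero_rs F (cechS f) i hi⟩ fun q => ?_
  exact augExact_of_ex (x.map ((GF F).X q)).ex

end K313.DescRow
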