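import Groth.Agent.CohtopB.RPushExt
import Groth.Agent.CohtopA.RDComp
import Groth.Agent.CohtopA.Flasque
import Groth.Agent.FibDesc.K781.Defs2
import Groth.Agent.Cohder.RDAcyc

/-!
# Derived functors of sections over an open

* `nonempty_iso_H'` : `R^p Γ(U, -)(F) ≅ H^p(U, F)`.
* `nonempty_iso_H` : `R^p Γ(X, -)(F) ≅ H^p(X, F)`.
* `isAcyc_of_isFlasque`.
-/

set_option autoImplicit false

universe u

open CategoryTheory CategoryTheory.Limits Opposite TopologicalSpace

namespace K313.GammaH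

open Groth.Agent K781.Flq

variable {X : TopCat.{u}}

instance (U : Opens X) : (Γ U).Additive where

theorem nonempty_iso_presheaf (F : CohTop.Ab X) (p : ℕ) :
    Nonempty (((sheafToPresheaf (Opens.grothendieckTopology X) AddCommGrpCat.{u}).rightDerived p).obj F ≅
      Sheaf.cohomologyPresheaf.{u} F p) := ⟨((CohtopA.RDComp.rightDerivedCongr
    (CohtopB.RPushExt.homPreFree (Opens.grothendieckTopology X)).symm p) ≪≫
    (CohtopB.ExtRD.extPreIso (CohtopA.FreeYo.freeShF (Opens.grothendieckTopology X)) p)).app F⟩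

theorem nonempty_iso_app (F : CohTop.Ab X) (U : Opens X) (p : ℕ) :
    Nonempty (((Γ U).rightDerived p).obj F ≅
      (((sheafToPresheaf (Opens.grothendieckTopology X) AddCommGrpCat.{u}).rightDerived p).obj F).obj
        (op U)) := by
  have e₁ := CohtopB.ExtRD.compExact
    (Iso.refl (sheafToPresheaf (Opens.grothendieckTopology X) AddCommGrpCat.{u} ⋙
      (evaluation _ AddCommGrpCat.{u}).obj (op U))) p
  exact ⟨e₁.app F⟩

theorem nonempty_iso_H' (F : CohTop.Ab X) (U : Opens X) (p : ℕ) :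
    Nonempty (((Γ U).rightDerived p).obj F ≅ (Sheaf.H' F p U : AddCommGrpCat.{u})) := by
  obtain ⟨e₁⟩ := nonempty_iso_app F U p
  obtain ⟨e₂⟩ := nonempty_iso_presheaf F p
  exact ⟨e₁ ≪≫ e₂.app (op U)⟩

theorem nonempty_iso_H (F : CohTop.Ab X) (p : ℕ) :
    Nonempty (((Γ (⊤ : Opens X)).rightDerived p).obj F ≅ AddCommGrpCat.of (CohTop.H F p)) := by
  obtain ⟨e⟩ := nonempty_iso_H' F ⊤ p
  exact ⟨e ≪≫ (CohtopA.Flasque.HTopEquiv F p).symm.toAddCommGrpIso⟩

theorem isAcyc_of_isFlasque (F : CohTop.Ab X) (hF : TopCat.Presheaf.IsFlasque F.obj) (U : Opens X) :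
    Cohder.RDAcyc.IsAcyc (Γ U) F := by
  intro i hi
  obtain ⟨j, rfl⟩ : ∃ j, i = j + 1 := ⟨i - 1, by omega⟩
  obtain ⟨e⟩ := nonempty_iso_H' F U (j + 1)
  have : TopCat.Sheaf.IsFlasque F := hF
  have := CohtopA.Flasque.subsingleton_HU_succ F U j
  exact (AddCommGrpCat.isZero_of_subsingleton _).of_iso e

end K313.GammaH
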