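import Groth.Agent.FibDesc.K781.Res
import Groth.Agent.FibDesc.K166.Flq
import Groth.Agent.CohTop.K313.GammaH
import Groth.Agent.UnramA.LAFormal810
import Mathlib.CategoryTheory.Sites.LocallyBijective
import Mathlib.Topology.Sheaves.Sheafify

/-!
# The Godement complex computes cohomology

`nonempty_homology_iso`: for a presheaf `P` on the spaces over `S` and a space `T` over `S`, the `q`-th cohomology
of the Godement complex `G(P)(T)` is `H^q(T, P_T)`, `P_T` the sheaf on `T` associated with `P`.
-/

set_option autoImplicit false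
set_option backward.isDefEq.respectTransparency false
set_option backward.isDefEq.respectTransparency.types false

universe u

open CategoryTheory CategoryTheory.Limits Opposite TopologicalSpace ComplexShape

namespace K313.GodRes

open K781.God K781.Desc K781.Flq Groth.Agent

variable {S : TopCat.{u}} (T : Over S)

/-- The presheaf on `T`. -/
noncomputable abbrev rT : ((Over S)ᵒᵖ ⥤ AddCommGrpCat.{u}) ⥤ ((Opens T.left)ᵒᵖ ⥤ AddCommGrpCat.{u}) :=
  (Functor.whiskeringLeft _ _ AddCommGrpCat.{u}).obj (subF T).op

/-- The associated sheaf on `T`. -/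
noncomputable abbrev shT : ((Over S)ᵒᵖ ⥤ AddCommGrpCat.{u}) ⥤
    Sheaf (Opens.grothendieckTopology T.left) AddCommGrpCat.{u} :=
  rT T ⋙ presheafToSheaf (Opens.grothendieckTopology T.left) AddCommGrpCat.{u}

instance : PreservesFiniteLimits (rT T) := ⟨fun _ _ _ => inferInstance⟩
instance : PreservesFiniteColimits (rT T) := ⟨fun _ _ _ => inferInstance⟩

instance : (presheafToSheaf (Opens.grothendieckTopology T.left) AddCommGrpCat.{u}).Additive :=
  (sheafificationAdjunction (Opens.grothendieckTopology T.left) AddCommGrpCat.{u}).left_adjoint_additive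

instance : (shT T).Additive := inferInstance

instance : PreservesFiniteLimits (shT T) := comp_preservesFiniteLimits _ _
instance : PreservesFiniteColimits (shT T) := comp_preservesFiniteColimits _ _

variable (Q : (Over S)ᵒᵖ ⥤ AddCommGrpCat.{u})

instance : Presheaf.IsLocallyInjective (Opens.grothendieckTopology T.left) ((rT T).map (toGod Q)) where
  equalizerSieve_mem {U} x y h t ht := by
    have h1 : gl Q (sub T U.unop) ⟨t, ht⟩ (x - y) = 0 := by
      have h2 := congrArg (fun a : (God Q).obj (op (sub T U.unop)) => evG Q (sub T U.unop) ⟨t, ht⟩ a) h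
      rw [map_sub, sub_eq_zero]
      exact h2
    obtain ⟨W, hW, e⟩ := gl_eq_zero Q (x - y) h1
    have hle : im T U.unop W ≤ U.unop := fun y hy => hy.1
    refine ⟨im T U.unop W, homOfLE hle, ?_, ⟨ht, hW⟩⟩
    have h3 : subMap T hle = imTo T U.unop W ≫ subι (sub T U.unop) W := sub_hom_ext (by simp)
    change Q.map (subMap T hle).op x = Q.map (subMap T hle).op y
    rw [← sub_eq_zero, ← map_sub, h3, ← mm]
    exact (congrArg _ e).trans (map_zero _)

instance : Mono ((shT T).map (toGod Q)) := by
  have h : Sheaf.IsLocallyInjective ((presheafToSheaf (Opens.grothendieckTopology T.left)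
      AddCommGrpCat.{u}).map ((rT T).map (toGod Q))) :=
    (Presheaf.isLocallyInjective_presheafToSheaf_map_iff (Opens.grothendieckTopology T.left) _).2
      inferInstance
  change Mono ((presheafToSheaf (Opens.grothendieckTopology T.left)
      AddCommGrpCat.{u}).map ((rT T).map (toGod Q)))
  exact Sheaf.mono_of_isLocallyInjective _

variable (P : (Over S)ᵒᵖ ⥤ AddCommGrpCat.{u})

theorem shortExact (n : ℕ) :
    (ShortComplex.mk (((GData P).map (shT T)).i n) (((GData P).map (shT T)).p n)
      (((GData P).map (shT T)).w n)).ShortExact := by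
  have h1 : (ShortComplex.mk (toGod (K781.God.Q P n)) (Qπ P n) (toGod_Qπ P n)).Exact := exact_Q P n
  have h2 := h1.map (shT T)
  let e : (ShortComplex.mk (toGod (K781.God.Q P n)) (Qπ P n) (toGod_Qπ P n)).map (shT T) ≅
      ShortComplex.mk (((GData P).map (shT T)).i n) (((GData P).map (shT T)).p n)
        (((GData P).map (shT T)).w n) :=
    ShortComplex.isoMk (Iso.refl _) ((shT T).mapIso (GX P n).symm) (Iso.refl _)
      (by
        change 𝟙 _ ≫ (shT T).map _ = (shT T).map _ ≫ (shT T).map _
        rw [← Functor.map_comp, Category.id_comp]; rfl)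
      (by
        change (shT T).map _ ≫ (shT T).map _ = (shT T).map _ ≫ 𝟙 _
        rw [← Functor.map_comp, Category.comp_id]
        congr 1
        exact Iso.inv_hom_id_assoc _ _)
  have hS : ((ShortComplex.mk (toGod (K781.God.Q P n)) (Qπ P n) (toGod_Qπ P n)).map (shT T)).ShortExact :=
    { exact := h2
      mono_f := inferInstanceAs (Mono ((shT T).map (toGod (K781.God.Q P n))))
      epi_g := inferInstanceAs (Epi ((shT T).map (Qπ P n))) }
  exact ShortComplex.shortExact_of_iso e hS

/-- The sheaf associated with the Godement presheaf. -/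
noncomputable def godSh : CohTop.Ab T.left := ⟨psh (God Q) T, isSheaf_god Q T⟩

theorem isIso_toSh : IsIso (toSheafify (Opens.grothendieckTopology T.left) (psh (God Q) T)) :=
  CategoryTheory.isIso_toSheafify _ (isSheaf_god Q T)

theorem isFlasque_shT : TopCat.Presheaf.IsFlasque ((shT T).obj (God Q)).obj := by
  have h := isIso_toSh T Q
  constructor
  intro U V i
  have h1 : Epi ((psh (God Q) T).map i) := TopCat.Presheaf.IsFlasque.epi i
  have h2 := (toSheafify (Opens.grothendieckTopology T.left) (psh (God Q) T)).naturality i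
  have h3 : Epi ((toSheafify (Opens.grothendieckTopology T.left) (psh (God Q) T)).app U ≫
      (sheafify (Opens.grothendieckTopology T.left) (psh (God Q) T)).map i) := by
    rw [← h2]
    infer_instance
  exact @epi_of_epi _ _ _ _ _ ((toSheafify (Opens.grothendieckTopology T.left) (psh (God Q) T)).app U)
    ((sheafify (Opens.grothendieckTopology T.left) (psh (God Q) T)).map i) h3

theorem isFlasque_X (m : ℤ) : TopCat.Presheaf.IsFlasque
    ((((shT T).mapHomologicalComplex (up ℤ)).obj (G P)).X m).obj := by
  by_cases hm : m < 0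
  · exact flasque_of_isZero _ ((shT T).map_isZero (G_neg P m hm))
  · obtain ⟨n, rfl⟩ := Int.eq_ofNat_of_zero_le (not_lt.1 hm)
    exact flasque_of_iso ((shT T).mapIso (GX P n).symm) (isFlasque_shT T (K781.God.Q P n))

instance isIso_subι : IsIso (subι T ⊤) := by
  let g : T ⟶ sub T ⊤ := Over.homMk (TopCat.ofHom ⟨fun x => ⟨x, trivial⟩,
    Continuous.subtype_mk continuous_id _⟩) rfl
  exact ⟨g, sub_hom_ext rfl, rfl⟩

/-- The comparison of sections over `T`. -/
noncomputable def η : (evaluation (Over S)ᵒᵖ AddCommGrpCat.{u}).obj (op T) ⟶ shT T ⋙ Γ ⊤ where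
  app P := P.map (subι T ⊤).op ≫
    (toSheafify (Opens.grothendieckTopology T.left) (psh P T)).app (op ⊤)
  naturality P P' f := by
    have h1 := congr_app (toSheafify_naturality (Opens.grothendieckTopology T.left)
      ((rT T).map f)) (op ⊤)
    change f.app (op T) ≫ P'.map (subι T ⊤).op ≫ (toSheafify _ (psh P' T)).app (op ⊤) =
      (P.map (subι T ⊤).op ≫ (toSheafify _ (psh P T)).app (op ⊤)) ≫
        (sheafifyMap (Opens.grothendieckTopology T.left) ((rT T).map f)).app (op ⊤)
    rw [Category.assoc]
    refine Eq.trans ?_ (congrArg (fun t => P.map (subι T ⊤).op ≫ t) h1)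
    change _ = P.map (subι T ⊤).op ≫ f.app (op (sub T ⊤)) ≫ (toSheafify _ (psh P' T)).app (op ⊤)
    rw [← Category.assoc, ← Category.assoc, f.naturality]

theorem isIso_η_god : IsIso ((η T).app (God Q)) := by
  have h1 : IsIso ((God Q).map (subι T ⊤).op) := inferInstance
  have h := isIso_toSh T Q
  have h2 : IsIso ((toSheafify (Opens.grothendieckTopology T.left) (psh (God Q) T)).app (op ⊤)) :=
    inferInstance
  exact IsIso.comp_isIso' h1 h2

theorem isIso_η_X (m : ℤ) : IsIso ((η T).app ((G P).X m)) := by
  by_cases hm : m < 0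
  · have h0 := G_neg P m hm
    exact (Functor.map_isZero _ h0).isIso (Functor.map_isZero _ h0) _
  · obtain ⟨n, rfl⟩ := Int.eq_ofNat_of_zero_le (not_lt.1 hm)
    have h1 := isIso_η_god T (K781.God.Q P n)
    have h2 := (η T).naturality (GX P n).hom
    have h3 : IsIso ((η T).app ((G P).X n) ≫ (shT T ⋙ Γ ⊤).map (GX P n).hom) := by
      have h2' : (η T).app ((G P).X n) ≫ (shT T ⋙ Γ ⊤).map (GX P n).hom =
        ((evaluation (Over S)ᵒᵖ AddCommGrpCat.{u}).obj (op T)).map (GX P n).hom ≫
          (η T).app (God (K781.God.Q P n)) := h2.symm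
      rw [h2']
      infer_instance
    exact IsIso.of_isIso_comp_right _ ((shT T ⋙ Γ ⊤).map (GX P n).hom)

/-- The Godement complex at `T`. -/
noncomputable abbrev GT : CochainComplex AddCommGrpCat.{u} ℤ :=
  (((evaluation (Over S)ᵒᵖ AddCommGrpCat.{u}).obj (op T)).mapHomologicalComplex (up ℤ)).obj (G P)

/-- The Godement complex at `T` is the complex of global sections of a complex of sheaves on `T`. -/
theorem nonempty_iso_sections : Nonempty (GT T P ≅ ((Γ ⊤).mapHomologicalComplex (up ℤ)).obj
    (((shT T).mapHomologicalComplex (up ℤ)).obj (G P))) := by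
  have h := fun m => isIso_η_X T P m
  exact ⟨HomologicalComplex.Hom.isoOfComponents (fun m => asIso ((η T).app ((G P).X m)))
    (fun i j _ => ((η T).naturality ((G P).d i j)).symm)⟩

/-- **The Godement complex computes cohomology.** -/
theorem nonempty_homology_iso (q : ℕ) :
    Nonempty ((GT T P).homology q ≅ AddCommGrpCat.of (CohTop.H ((shT T).obj P) q)) := by
  obtain ⟨e₁⟩ := nonempty_iso_sections T P
  let E : CochainComplex (Sheaf (Opens.grothendieckTopology T.left) AddCommGrpCat.{u}) ℤ :=
    ((shT T).mapHomologicalComplex (up ℤ)).obj (G P)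
  have hGE : CochainComplex.IsStrictlyGE E 0 := by
    rw [CochainComplex.isStrictlyGE_iff]
    intro i hi
    exact (shT T).map_isZero (G_neg P i hi)
  have h0 : QuasiIso ((GData P).map (shT T)).aug := K781.Spl.Data.quasiIso_aug _ (shortExact T P)
  obtain ⟨e₂⟩ := UnramA.LAFormal.nonempty_homology_iso (Γ (⊤ : Opens T.left)) ((shT T).obj P) E 0
    ((GData P).map (shT T)).aug (fun m => GammaH.isAcyc_of_isFlasque _ (isFlasque_X T P m) ⊤) q q rfl
  obtain ⟨e₃⟩ := GammaH.nonempty_iso_H ((shT T).obj P) q
  exact ⟨(HomologicalComplex.homologyFunctor _ (up ℤ) (q : ℤ)).mapIso e₁ ≪≫ e₂ ≪≫ e₃⟩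

end K313.GodRes
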