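import Mathlib.CategoryTheory.Adjunction.Evaluation
import Mathlib.CategoryTheory.Abelian.Basic
import Mathlib.CategoryTheory.Limits.FunctorCategory.EpiMono
import Mathlib.CategoryTheory.Preadditive.Injective.Basic

/-!
# Injective inverse systems indexed by the natural numbers

Let `I : ℕᵒᵖ ⥤ A` be an injective object, `A` abelian.
* `injective_obj` : every `I n` is injective.
* `isSplitEpi_map` : the transition maps of `I` are split epimorphisms.
-/

set_option autoImplicit false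
universe v u

open CategoryTheory CategoryTheory.Limits Opposite

namespace K313.InjSys

variable {A : Type u} [Category.{v} A] [Abelian A]

theorem mono_desc {J J' : Type} [Subsingleton J] [Subsingleton J'] {M N : A} (f : M ⟶ N) [Mono f]
    (φ : J → J') [HasCoproduct (fun _ : J => M)] [HasCoproduct (fun _ : J' => N)] :
    Mono (Sigma.desc (fun j : J => f ≫ Sigma.ι (fun _ : J' => N) (φ j))) := by
  rcases isEmpty_or_nonempty J with hJ | ⟨⟨j⟩⟩
  · have hz : IsZero (∐ fun _ : J => M) := by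
      rw [IsZero.iff_id_eq_zero]
      exact Sigma.hom_ext _ _ fun j => isEmptyElim j
    exact ⟨fun g h _ => hz.eq_of_tgt g h⟩
  · have h1 : Sigma.ι (fun _ : J => M) j ≫ Sigma.desc (fun _ : J => 𝟙 M) = 𝟙 M := by simp
    have h2 : Sigma.desc (fun _ : J => 𝟙 M) ≫ Sigma.ι (fun _ : J => M) j = 𝟙 _ := by
      refine Sigma.hom_ext _ _ fun j' => ?_
      obtain rfl := Subsingleton.elim j j'
      simp
    have h3 : Mono (Sigma.ι (fun _ : J' => N) (φ j)) := by
      have : Sigma.ι (fun _ : J' => N) (φ j) ≫ Sigma.desc (fun _ : J' => 𝟙 N) = 𝟙 N := by simp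
      exact mono_of_mono_fac this
    have h4 : Mono (Sigma.desc (fun _ : J => 𝟙 M) ≫ f ≫ Sigma.ι (fun _ : J' => N) (φ j)) := by
      have : Mono (Sigma.desc (fun _ : J => 𝟙 M)) := mono_of_mono_fac h2
      infer_instance
    convert h4 using 1
    refine Sigma.hom_ext _ _ fun j' => ?_
    obtain rfl := Subsingleton.elim j j'
    simp

theorem hasCoproductsOfShape (a b : ℕᵒᵖ) : HasCoproductsOfShape (a ⟶ b) A := by
  have : Finite (a ⟶ b) := Finite.of_subsingleton
  infer_instance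

attribute [local instance] hasCoproductsOfShape

theorem injective_obj (I : ℕᵒᵖ ⥤ A) [Injective I] (n : ℕᵒᵖ) : Injective (I.obj n) := by
  have : (evaluationLeftAdjoint A n).PreservesMonomorphisms :=
    ⟨fun {M N} f hf => by
      have : ∀ k : ℕᵒᵖ, Mono (((evaluationLeftAdjoint A n).map f).app k) := fun k =>
        mono_desc (J := (n ⟶ k)) (J' := (n ⟶ k)) f id
      exact NatTrans.mono_of_mono_app _⟩
  exact Injective.injective_of_adjoint (evaluationAdjunctionRight A n) I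

/-- The map `L_a M ⟶ L_b M` for `φ : b ⟶ a`. -/
noncomputable def conj {a b : ℕᵒᵖ} (φ : b ⟶ a) (M : A) :
    (evaluationLeftAdjoint A a).obj M ⟶ (evaluationLeftAdjoint A b).obj M where
  app k := Sigma.desc fun g : a ⟶ k => 𝟙 M ≫ Sigma.ι (fun _ : b ⟶ k => M) (φ ≫ g)
  naturality k l g := by
    refine Sigma.hom_ext _ _ fun j => ?_
    simp [evaluationLeftAdjoint]

theorem mono_conj {a b : ℕᵒᵖ} (φ : b ⟶ a) (M : A) : Mono (conj φ M) := by
  have : ∀ k : ℕᵒᵖ, Mono ((conj φ M).app k) := fun k =>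
    mono_desc (J := (a ⟶ k)) (J' := (b ⟶ k)) (𝟙 M) (fun g => φ ≫ g)
  exact NatTrans.mono_of_mono_app _

/-- The inclusions of the left adjoint of evaluation. -/
noncomputable def ιL {a k : ℕᵒᵖ} (g : a ⟶ k) (M : A) :
    M ⟶ ((evaluationLeftAdjoint A a).obj M).obj k := Sigma.ι (fun _ : a ⟶ k => M) g

theorem ιL_map {a k l : ℕᵒᵖ} (g : a ⟶ k) (h : k ⟶ l) (M : A) :
    ιL g M ≫ ((evaluationLeftAdjoint A a).obj M).map h = ιL (g ≫ h) M := by
  simp [ιL, evaluationLeftAdjoint]

theorem ιL_conj {a b k : ℕᵒᵖ} (φ : b ⟶ a) (g : a ⟶ k) (M : A) :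
    ιL g M ≫ (conj φ M).app k = ιL (φ ≫ g) M := by
  refine (colimit.ι_desc _ _).trans ?_
  exact Category.id_comp _

/-- The counit. -/
noncomputable def cou (I : ℕᵒᵖ ⥤ A) (a : ℕᵒᵖ) : (evaluationLeftAdjoint A a).obj (I.obj a) ⟶ I where
  app k := Sigma.desc fun g : a ⟶ k => I.map g
  naturality k l g := by
    refine Sigma.hom_ext _ _ fun j => ?_
    simp [evaluationLeftAdjoint]

theorem ιL_cou (I : ℕᵒᵖ ⥤ A) {a k : ℕᵒᵖ} (g : a ⟶ k) : ιL g (I.obj a) ≫ (cou I a).app k = I.map g :=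
  colimit.ι_desc _ _

theorem isSplitEpi_map (I : ℕᵒᵖ ⥤ A) [Injective I] {a b : ℕᵒᵖ} (φ : b ⟶ a) :
    IsSplitEpi (I.map φ) := by
  have := mono_conj φ (I.obj a)
  let y := Injective.factorThru (cou I a) (conj φ (I.obj a))
  have hy : conj φ (I.obj a) ≫ y = cou I a := Injective.comp_factorThru _ _
  refine ⟨⟨⟨ιL (𝟙 b) (I.obj a) ≫ y.app b, ?_⟩⟩⟩
  rw [Category.assoc, ← y.naturality, ← Category.assoc, ιL_map, Category.id_comp]
  have h3 : ιL (φ ≫ 𝟙 a) (I.obj a) = ιL φ (I.obj a) := by rw [Category.comp_id]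
  rw [← h3, ← ιL_conj, Category.assoc, ← NatTrans.comp_app, hy, ιL_cou, I.map_id]

end K313.InjSys
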