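import Groth.Agent.CohTop.K313.Tower
import Groth.Agent.CohTop.K313.InjSys
import Groth.Agent.Formal2.K575.Towers
import Groth.Agent.CohtopA.ModExt
import Groth.Agent.CohtopA.Flasque
import Groth.Agent.CohtopA.RDerVanish
import Groth.Agent.EtpbcB.RDerLES

/-!
# Derived inverse limits of systems of sheaves of modules
-/

set_option autoImplicit false
universe u

open CategoryTheory CategoryTheory.Limits TopologicalSpace Opposite Abelian

namespace K313.RlimMod

open Groth.Agent.CohtopA Groth.Agent.CohtopA.Sec K313.Tower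

/-- Mittag-Leffler systems have no `lim^1`. -/
theorem exists_of_isMittagLeffler (F : ℕᵒᵖ ⥤ AddCommGrpCat.{u})
    (h : (F ⋙ forget AddCommGrpCat.{u}).IsMittagLeffler) (y : ∀ n : ℕ, F.obj (op n)) :
    ∃ x : ∀ n : ℕ, F.obj (op n), ∀ n, x n - F.map (homOfLE (Nat.le_succ n)).op (x (n + 1)) = y n := by
  let G : ℕ → Type u := fun n => F.obj (op n)
  let t : ∀ n : ℕ, G (n + 1) →+ G n := fun n => (F.map (homOfLE (Nat.le_succ n)).op).hom
  have hs : ∀ (n m : ℕ) (h : n ≤ m) (x : F.obj (op m)),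
      K575.Towers.s (G := G) t h x = F.map (homOfLE h).op x := by
    intro n m h
    induction m, h using Nat.le_induction with
    | base =>
      intro x
      rw [K575.Towers.s_refl]
      have : (homOfLE (le_refl n)).op = 𝟙 (op n) := rfl
      rw [this, F.map_id]
      rfl
    | succ m h ih =>
      intro x
      rw [← K575.Towers.s_trans t h (Nat.le_succ m), K575.Towers.s_succ, ih]
      have : (homOfLE (Nat.le_succ_of_le h)).op =
          (homOfLE (Nat.le_succ m)).op ≫ (homOfLE h).op := rfl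
      rw [this, F.map_comp]
      rfl
  have key : ∀ n : ℕ, ∃ m : ℕ, ∃ hm : n ≤ m, ∀ (z : F.obj (op m)) (k : ℕ) (hk : n ≤ k),
      ∃ w : F.obj (op k), K575.Towers.s (G := G) t hk w = K575.Towers.s (G := G) t hm z := by
    intro n
    obtain ⟨⟨m⟩, f, hf⟩ := h (Opposite.op n)
    refine ⟨m, leOfHom f.unop, fun z k hk => ?_⟩
    obtain ⟨w, hw⟩ := hf (k := Opposite.op k) (homOfLE hk).op ⟨z, rfl⟩
    exact ⟨w, ((hs _ _ _ _).trans hw).trans (hs _ _ _ _).symm⟩
  have := K575.Towers.surjective_towerDiff (G := G) t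
    (fun n => ⨅ k : {k : ℕ // n ≤ k}, (K575.Towers.s t k.2).range) (fun n x hx => ?_) (fun n => ?_)
  · obtain ⟨x, hx⟩ := this y
    exact ⟨x, fun n => congrFun hx n⟩
  · obtain ⟨m, hm, hz'⟩ := key (n + 1)
    rw [AddSubgroup.mem_iInf] at hx
    obtain ⟨z, hz⟩ := hx ⟨m, (Nat.le_succ n).trans hm⟩
    refine ⟨K575.Towers.s t hm z, ?_, ?_⟩
    · rw [AddSubgroup.mem_iInf]
      rintro ⟨k, hk⟩
      exact hz' z k hk
    · rw [K575.Towers.t_s]
      exact hz
  · obtain ⟨m, hm, hz'⟩ := key n
    refine ⟨m, hm, fun k hmk hnk z => ?_⟩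
    rw [AddSubgroup.mem_iInf]
    rintro ⟨l, hl⟩
    have h0 : K575.Towers.s t hnk z = K575.Towers.s t hm (K575.Towers.s t hmk z) :=
      (K575.Towers.s_trans t hm hmk z).symm
    rw [h0]
    exact hz' _ l hl

section

variable {X : TopCat.{u}} (R : Sheaf (Opens.grothendieckTopology X) RingCat.{u})

/-- Underlying abelian sheaf. -/
noncomputable abbrev T : SheafOfModules.{u} R ⥤ CohTop.Ab X := SheafOfModules.toSheaf R

theorem preservesLimitsOfShape_T (D : Type) [SmallCategory D] :
    PreservesLimitsOfShape D (SheafOfModules.toSheaf.{u} R) := by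
  have h1 : PreservesLimitsOfShape D (SheafOfModules.forget.{u} R ⋙
      PresheafOfModules.toPresheaf R.obj) := inferInstance
  have h2 : PreservesLimitsOfShape D
      (SheafOfModules.toSheaf.{u} R ⋙ sheafToPresheaf _ _) := h1
  exact preservesLimitsOfShape_of_reflects_of_preserves _ (sheafToPresheaf _ _)

/-- Sections over an open. -/
noncomputable abbrev evM (U : Opens X) : SheafOfModules.{u} R ⥤ AddCommGrpCat.{u} :=
  T R ⋙ evU U

theorem preservesLimitsOfShape_evM (U : Opens X) (D : Type) [SmallCategory D] :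
    PreservesLimitsOfShape D (evM R U ⋙ forget AddCommGrpCat.{u}) := by
  have := preservesLimitsOfShape_T R D
  have : PreservesLimitsOfShape D (T R ⋙ evU U) := inferInstance
  infer_instance

/-- A compatible family of sections of a system of modules. -/
theorem exists_lim (E : ℕᵒᵖ ⥤ SheafOfModules.{u} R) (U : Opens X)
    (x : ∀ n : ℕ, Γs ((T R).obj (E.obj (op n))) U)
    (hx : ∀ n, m ((T R).map (tr E n)) U (x (n + 1)) = x n) :
    ∃ y : Γs ((T R).obj (limit E)) U, ∀ n : ℕ, m ((T R).map (limit.π E (op n))) U y = x n := by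
  have := preservesLimitsOfShape_evM R U ℕᵒᵖ
  exact exists_of_isLimit E (evM R U) (limit.isLimit E) x hx

theorem lim_ext (E : ℕᵒᵖ ⥤ SheafOfModules.{u} R) (U : Opens X)
    {y z : Γs ((T R).obj (limit E)) U}
    (h : ∀ n : ℕ, m ((T R).map (limit.π E (op n))) U y = m ((T R).map (limit.π E (op n))) U z) :
    y = z := by
  have := preservesLimitsOfShape_evM R U ℕᵒᵖ
  exact ext_of_isLimit E (evM R U) (limit.isLimit E) h

theorem shortExact_T {S : ShortComplex (SheafOfModules.{u} R)} (hS : S.ShortExact) :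
    (S.map (T R)).ShortExact := by
  have : PreservesFiniteColimits (T R) := ModExt.toSheaf_preservesFiniteColimits R
  exact hS.map_of_exact (T R)

theorem ext_injective (I : SheafOfModules.{u} R) [Injective I] (U : Opens X) (n : ℕ)
    (x : Ext.{u} (FreeAb.freeAb (Opens.grothendieckTopology X) U) ((T R).obj I) (n + 1)) : x = 0 :=
  ModExt.ext_toSheaf_eq_zero I n (TFree.tf_free (Opens.grothendieckTopology X) _) x

variable (B : Set (Opens X))

/-- All terms of the system are acyclic on the members of `B`. -/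
def Acy (E : ℕᵒᵖ ⥤ SheafOfModules.{u} R) : Prop :=
  ∀ U ∈ B, ∀ (n i : ℕ) (x : Ext.{u} (FreeAb.freeAb (Opens.grothendieckTopology X) U)
    ((T R).obj (E.obj (op n))) (i + 1)), x = 0

/-- `lim^1` of the sections vanishes on the members of `B`. -/
def Lim1 (E : ℕᵒᵖ ⥤ SheafOfModules.{u} R) : Prop :=
  ∀ U ∈ B, ∀ y : ∀ n : ℕ, Γs ((T R).obj (E.obj (op n))) U,
    ∃ x : ∀ n : ℕ, Γs ((T R).obj (E.obj (op n))) U,
      ∀ n, x n - m ((T R).map (tr E n)) U (x (n + 1)) = y n

variable {R B} {S : ShortComplex (ℕᵒᵖ ⥤ SheafOfModules.{u} R)} (hS : S.ShortExact)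

include hS in
theorem level (n : ℕ) :
    ((S.map ((evaluation _ (SheafOfModules.{u} R)).obj (op n))).map (T R)).ShortExact :=
  shortExact_T R (hS.map_of_exact _)

include hS in
theorem exact_level (n : ℕ) {U : Opens X} (s : Γs ((T R).obj (S.X₂.obj (op n))) U)
    (h : m ((T R).map (S.g.app (op n))) U s = 0) :
    ∃ e : Γs ((T R).obj (S.X₁.obj (op n))) U, m ((T R).map (S.f.app (op n))) U e = s :=
  exact_lift (level hS n) s h

theorem comp_level (n : ℕ) {U : Opens X} (s : Γs ((T R).obj (S.X₁.obj (op n))) U) :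
    m ((T R).map (S.g.app (op n))) U (m ((T R).map (S.f.app (op n))) U s) = 0 := by
  have h : S.f.app (op n) ≫ S.g.app (op n) = 0 := by
    rw [← NatTrans.comp_app, S.zero]; rfl
  rw [← m_comp, ← Functor.map_comp, h]
  have h0 : (T R).map (0 : S.X₁.obj (op n) ⟶ S.X₃.obj (op n)) = 0 := Functor.map_zero _ _ _
  rw [h0]
  rfl

include hS in
theorem surj_level (hA : Acy R B S.X₁) {U : Opens X} (hU : U ∈ B) (n : ℕ) :
    Function.Surjective (m ((T R).map (S.g.app (op n))) U) := by
  intro t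
  obtain ⟨f, hf⟩ := (FreeAb.homEv_bijective (J := Opens.grothendieckTopology X) U
    ((T R).obj (S.X₃.obj (op n)))).2 t
  obtain ⟨g, hg⟩ := DimShift.exists_lift_of_ext_one (level hS n)
    (FreeAb.freeAb (Opens.grothendieckTopology X) U) (hA U hU n 0) f
  refine ⟨FreeAb.homEv U _ g, ?_⟩
  rw [← hf, ← hg]
  rfl

include hS in
theorem acy_right (hA : Acy R B S.X₁) [Injective S.X₂] : Acy R B S.X₃ := by
  intro U hU n i x
  have : Injective (S.X₂.obj (op n)) := InjSys.injective_obj S.X₂ (op n)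
  exact DimShift.ext_eq_zero_of_left (level hS n) _ (i + 1) (hA U hU n (i + 1))
    (ext_injective R (S.X₂.obj (op n)) U i) x

/-- The transition maps of an injective system are surjective on sections. -/
theorem surj_tr (I : ℕᵒᵖ ⥤ SheafOfModules.{u} R) [Injective I] (U : Opens X) (n : ℕ) :
    Function.Surjective (m ((T R).map (tr I n)) U) := by
  have h := InjSys.isSplitEpi_map I (homOfLE (Nat.le_succ n)).op
  obtain ⟨⟨s, hs⟩⟩ := h
  intro y
  refine ⟨m ((T R).map s) U y, ?_⟩
  rw [← m_comp, ← Functor.map_comp]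
  have : s ≫ tr I n = 𝟙 _ := hs
  rw [this]
  exact congrArg (fun z => m z U y) ((T R).map_id _)

theorem lim1_injective (I : ℕᵒᵖ ⥤ SheafOfModules.{u} R) [Injective I] (U : Opens X)
    (y : ∀ n : ℕ, Γs ((T R).obj (I.obj (op n))) U) :
    ∃ x : ∀ n : ℕ, Γs ((T R).obj (I.obj (op n))) U,
      ∀ n, x n - m ((T R).map (tr I n)) U (x (n + 1)) = y n := by
  obtain ⟨x, -, hx⟩ := exists_seq (α := fun n => Γs ((T R).obj (I.obj (op n))) U) (fun _ _ => True)
    (fun n s t => s - m ((T R).map (tr I n)) U t = y n) ⟨0, trivial⟩ (fun n s _ => by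
      obtain ⟨t, ht⟩ := surj_tr I U n (s - y n)
      exact ⟨t, trivial, by rw [ht]; abel⟩)
  exact ⟨x, hx⟩

/-- Naturality on sections. -/
theorem m_nat {E F : ℕᵒᵖ ⥤ SheafOfModules.{u} R} (φ : E ⟶ F) (n : ℕ) {U : Opens X}
    (s : Γs ((T R).obj (E.obj (op (n + 1)))) U) :
    m ((T R).map (φ.app (op n))) U (m ((T R).map (tr E n)) U s) =
      m ((T R).map (tr F n)) U (m ((T R).map (φ.app (op (n + 1)))) U s) := by
  rw [← m_comp, ← m_comp, ← Functor.map_comp, ← Functor.map_comp, φ.naturality]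

include hS in
theorem lim1_right (hA : Acy R B S.X₁) [Injective S.X₂] : Lim1 R B S.X₃ := by
  intro U hU y
  choose z hz using fun n => surj_level hS hA hU n (y n)
  obtain ⟨x, hx⟩ := lim1_injective S.X₂ U z
  refine ⟨fun n => m ((T R).map (S.g.app (op n))) U (x n), fun n => ?_⟩
  rw [← hz n, ← hx n, map_sub, m_nat]

theorem m_limπ {E F : ℕᵒᵖ ⥤ SheafOfModules.{u} R} (φ : E ⟶ F) (n : ℕ) {U : Opens X}
    (z : Γs ((T R).obj (limit E)) U) :
    m ((T R).map (limit.π F (op n))) U (m ((T R).map (limMap φ)) U z) =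
      m ((T R).map (φ.app (op n))) U (m ((T R).map (limit.π E (op n))) U z) := by
  rw [← m_comp, ← m_comp, ← Functor.map_comp, ← Functor.map_comp, limMap_π]

theorem m_limπ_succ (E : ℕᵒᵖ ⥤ SheafOfModules.{u} R) {U : Opens X} (y : Γs ((T R).obj (limit E)) U)
    (n : ℕ) :
    m ((T R).map (tr E n)) U (m ((T R).map (limit.π E (op (n + 1)))) U y) =
      m ((T R).map (limit.π E (op n))) U y := by
  rw [← m_comp, ← Functor.map_comp, limit.w]

include hS in
theorem epi_limMap (hB : Opens.IsBasis B) (hA : Acy R B S.X₁) (hL : Lim1 R B S.X₁) :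
    Epi (limMap S.g) := by
  have : Epi ((T R).map (limMap S.g)) := by
    refine epi_of_local _ fun U t x hx => ?_
    obtain ⟨V, hV, hxV, hVU⟩ := Opens.isBasis_iff_nbhd.1 hB hx
    refine ⟨V, hVU, ?_⟩
    generalize r _ hVU t = y
    choose z hz using fun n => surj_level hS hA hV n (m ((T R).map (limit.π S.X₃ (op n))) V y)
    have h0 : ∀ n, m ((T R).map (S.g.app (op n))) V (z n - m ((T R).map (tr S.X₂ n)) V (z (n + 1))) = 0 := by
      intro n
      rw [map_sub, m_nat, hz, hz, m_limπ_succ, sub_self]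
    choose e he using fun n => exact_level hS n _ (h0 n)
    obtain ⟨w, hw⟩ := hL V hV e
    obtain ⟨a, ha⟩ := exists_lim R S.X₂ V (fun n => z n - m ((T R).map (S.f.app (op n))) V (w n))
      (fun n => by
        have h1 := he n
        rw [← hw n, map_sub, m_nat] at h1
        rw [map_sub, ← sub_eq_zero]
        have h2 : m ((T R).map (tr S.X₂ n)) V (z (n + 1)) -
            m ((T R).map (tr S.X₂ n)) V (m ((T R).map (S.f.app (op (n + 1)))) V (w (n + 1))) -
            (z n - m ((T R).map (S.f.app (op n))) V (w n)) =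
            (m ((T R).map (S.f.app (op n))) V (w n) -
              m ((T R).map (tr S.X₂ n)) V (m ((T R).map (S.f.app (op (n + 1)))) V (w (n + 1)))) -
            (z n - m ((T R).map (tr S.X₂ n)) V (z (n + 1))) := by abel
        rw [h2, h1, sub_self])
    refine ⟨a, hxV, lim_ext R S.X₃ V fun n => ?_⟩
    rw [m_limπ, ha, map_sub, comp_level, sub_zero, hz]
  exact (T R).epi_of_epi_map this

include hS in
theorem shortExact_lim [(lim : (ℕᵒᵖ ⥤ SheafOfModules.{u} R) ⥤ SheafOfModules.{u} R).Additive]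
    (hB : Opens.IsBasis B) (hA : Acy R B S.X₁) (hL : Lim1 R B S.X₁) :
    (S.map (lim : (ℕᵒᵖ ⥤ SheafOfModules.{u} R) ⥤ SheafOfModules.{u} R)).ShortExact := by
  have := hS.mono_f
  have h1 : (S.map (lim : (ℕᵒᵖ ⥤ SheafOfModules.{u} R) ⥤ SheafOfModules.{u} R)).Exact :=
    hS.exact.map_of_mono_of_preservesKernel _ inferInstance inferInstance
  exact
    { exact := h1
      mono_f := inferInstanceAs (Mono (lim.map S.f))
      epi_g := epi_limMap hS hB hA hL }

end

end K313.RlimMod
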