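import Groth.Agent.CohtopA.Sec
import Mathlib.Topology.Sheaves.Flasque
import Mathlib.CategoryTheory.Limits.Types.Limits
import Mathlib.CategoryTheory.Sites.Limits
import Mathlib.Tactic.Abel

/-!
# Towers of abelian sheaves on a space, elementwise

* `exists_limit`: an element of `G (lim M)` from a compatible family, for `G` preserving the limit;
* `evU`: sections over an open, a limit preserving functor;
* `exists_sections`: compatible sections of a tower of sheaves give a section of the limit;
* `surjective_of_flasque_kernel`: an epimorphism with flasque kernel is surjective on sections.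
-/

set_option autoImplicit false
universe w v u

open CategoryTheory CategoryTheory.Limits TopologicalSpace Opposite

namespace K313.Tower

/-- Dependent choice along the natural numbers. -/
theorem exists_seq {α : ℕ → Type*} (P : ∀ n, α n → Prop) (R : ∀ n, α n → α (n + 1) → Prop)
    (h0 : ∃ x, P 0 x) (hs : ∀ n x, P n x → ∃ y, P (n + 1) y ∧ R n x y) :
    ∃ f : ∀ n, α n, (∀ n, P n (f n)) ∧ ∀ n, R n (f n) (f (n + 1)) := by
  classical
  obtain ⟨x₀, hx₀⟩ := h0
  choose nx hnx using hs
  let F : ∀ n, {x : α n // P n x} := fun n =>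
    Nat.rec ⟨x₀, hx₀⟩ (fun n x => ⟨nx n x.1 x.2, (hnx n x.1 x.2).1⟩) n
  exact ⟨fun n => (F n).1, fun n => (F n).2, fun n => (hnx n (F n).1 (F n).2).2⟩


section General

variable {A : Type v} [Category.{w} A] (M : ℕᵒᵖ ⥤ A) (G : A ⥤ AddCommGrpCat.{u})

/-- The transition map `M (n+1) ⟶ M n`. -/
abbrev tr (n : ℕ) : M.obj (op (n + 1)) ⟶ M.obj (op n) := M.map (homOfLE (Nat.le_succ n)).op

theorem map_eq_of_compat (x : ∀ n : ℕ, G.obj (M.obj (op n)))
    (hx : ∀ n, G.map (tr M n) (x (n + 1)) = x n) (n m : ℕ) (h : n ≤ m) :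
    G.map (M.map (homOfLE h).op) (x m) = x n := by
  induction m, h using Nat.le_induction with
  | base =>
    have : (homOfLE (le_refl n)).op = 𝟙 (op n) := rfl
    rw [this, M.map_id, G.map_id]
    rfl
  | succ m h ih =>
    have : (homOfLE (Nat.le_succ_of_le h)).op =
        (homOfLE (Nat.le_succ m)).op ≫ (homOfLE h).op := rfl
    rw [this, M.map_comp, G.map_comp]
    exact (congrArg (G.map (M.map (homOfLE h).op)) (hx m)).trans ih

theorem exists_of_isLimit {c : Cone M} (hc : IsLimit c) [PreservesLimit M (G ⋙ forget AddCommGrpCat.{u})]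
    (x : ∀ n : ℕ, G.obj (M.obj (op n)))
    (hx : ∀ n, G.map (tr M n) (x (n + 1)) = x n) :
    ∃ y : G.obj c.pt, ∀ n : ℕ, G.map (c.π.app (op n)) y = x n := by
  have h := isLimitOfPreserves (G ⋙ forget AddCommGrpCat.{u}) hc
  let s : (M ⋙ G ⋙ forget AddCommGrpCat.{u}).sections :=
    ⟨fun n => x n.unop, by
      rintro ⟨m⟩ ⟨n⟩ f
      have hnm : n ≤ m := leOfHom f.unop
      exact map_eq_of_compat M G x hx n m hnm⟩
  obtain ⟨y, hy, -⟩ := (Types.isLimit_iff _).1 ⟨h⟩ s.1 s.2
  exact ⟨y, fun n => hy (op n)⟩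

theorem ext_of_isLimit {c : Cone M} (hc : IsLimit c) [PreservesLimit M (G ⋙ forget AddCommGrpCat.{u})]
    {y z : G.obj c.pt} (h : ∀ n : ℕ, G.map (c.π.app (op n)) y = G.map (c.π.app (op n)) z) :
    y = z := by
  have h' := isLimitOfPreserves (G ⋙ forget AddCommGrpCat.{u}) hc
  let s : (M ⋙ G ⋙ forget AddCommGrpCat.{u}).sections :=
    ⟨fun n => G.map (c.π.app n) y, by
      intro m n f
      have := congrArg (fun t => G.map t y) (c.w f)
      exact (ConcreteCategory.congr_hom (G.map_comp _ _) y).symm.trans this⟩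
  obtain ⟨t, ht, hu⟩ := (Types.isLimit_iff _).1 ⟨h'⟩ s.1 s.2
  have hy : y = t := hu y (fun n => rfl)
  have hz : z = t := hu z (fun n => (h n.unop).symm)
  rw [hy, hz]

end General

section Sheaves

variable {X : TopCat.{u}}

/-- Sections over an open. -/
noncomputable abbrev evU (U : Opens X) : CohTop.Ab X ⥤ AddCommGrpCat.{u} :=
  sheafToPresheaf (Opens.grothendieckTopology X) AddCommGrpCat.{u} ⋙ (evaluation _ _).obj (op U)

open Groth.Agent.CohtopA.Sec

theorem exists_section (M : ℕᵒᵖ ⥤ CohTop.Ab X) (U : Opens X) (x : ∀ n : ℕ, Γs (M.obj (op n)) U)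
    (hx : ∀ n, m (tr M n) U (x (n + 1)) = x n) :
    ∃ y : Γs (limit M) U, ∀ n : ℕ, m (limit.π M (op n)) U y = x n :=
  exists_of_isLimit M (evU U) (limit.isLimit M) x hx

theorem section_ext (M : ℕᵒᵖ ⥤ CohTop.Ab X) (U : Opens X) {y z : Γs (limit M) U}
    (h : ∀ n : ℕ, m (limit.π M (op n)) U y = m (limit.π M (op n)) U z) : y = z :=
  ext_of_isLimit M (evU U) (limit.isLimit M) h

theorem m_π_succ (M : ℕᵒᵖ ⥤ CohTop.Ab X) (U : Opens X) (y : Γs (limit M) U) (n : ℕ) :
    m (tr M n) U (m (limit.π M (op (n + 1))) U y) = m (limit.π M (op n)) U y := by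
  rw [← m_comp, limit.w]

theorem surjective_iff_epi {F : CohTop.Ab X} {U V : Opens X} (h : V ≤ U) :
    Epi (F.obj.map (homOfLE h).op) ↔ Function.Surjective (r F h) :=
  AddCommGrpCat.epi_iff_surjective _

theorem surjective_r (F : CohTop.Ab X) [TopCat.Sheaf.IsFlasque F] {U V : Opens X} (h : V ≤ U) :
    Function.Surjective (r F h) :=
  (surjective_iff_epi h).1 (TopCat.Presheaf.IsFlasque.epi _)

theorem isFlasque_iff (F : CohTop.Ab X) : TopCat.Sheaf.IsFlasque F ↔
    ∀ (U V : Opens X) (h : V ≤ U), Function.Surjective (r F h) := by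
  constructor
  · intro _ U V h
    exact surjective_r F h
  · intro h
    refine ⟨fun {U V} i => ?_⟩
    exact (surjective_iff_epi (leOfHom i.unop)).2 (h U.unop V.unop (leOfHom i.unop))

/-- In a short exact sequence with flasque kernel, sections lift. -/
theorem surjective_m {S : ShortComplex (CohTop.Ab X)} (hS : S.ShortExact)
    [TopCat.Sheaf.IsFlasque S.X₁] (U : Opens X) : Function.Surjective (m S.g U) := by
  have h : Epi (S.g.hom.app (op U)) :=
    TopCat.Sheaf.IsFlasque.epi_of_shortExact (X := X) (S := S) hS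
  exact (AddCommGrpCat.epi_iff_surjective _).1 h

theorem kernel_shortExact {F G : CohTop.Ab X} (f : F ⟶ G) [Epi f] :
    (ShortComplex.mk (kernel.ι f) f (kernel.condition f)).ShortExact :=
  { exact := ShortComplex.exact_kernel _
    mono_f := inferInstanceAs (Mono (kernel.ι _))
    epi_g := inferInstanceAs (Epi f) }

/-- An epimorphism with flasque kernel is surjective on sections. -/
theorem surjective_of_flasque_kernel {F G : CohTop.Ab X} (f : F ⟶ G) [Epi f]
    (h : TopCat.Sheaf.IsFlasque (kernel f : CohTop.Ab X)) (U : Opens X) :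
    Function.Surjective (m f U) := by
  have : TopCat.Sheaf.IsFlasque (ShortComplex.mk (kernel.ι f) f (kernel.condition f)).X₁ := h
  exact surjective_m (kernel_shortExact f) U

theorem exists_kernel_section {F G : CohTop.Ab X} (f : F ⟶ G) [Epi f] {U : Opens X} (s : Γs F U)
    (h : m f U s = 0) : ∃ t : Γs (kernel f) U, m (kernel.ι f) U t = s :=
  exact_lift (kernel_shortExact f) s h

end Sheaves

end K313.Tower
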